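import Groth.Agent.H23NoetherChain.Basic
import Mathlib.RingTheory.NoetherNormalization

/-!
# Chains of primes over a flag of coordinate subspaces
-/

set_option autoImplicit false
set_option linter.style.haveILetI false

noncomputable section

universe u v

open MvPolynomial

namespace Groth.Agent.H23NoetherChain

section Between

variable {R : Type u} {A : Type v} [CommRing R] [CommRing A] [Algebra R A] [Algebra.IsIntegral R A]

/-- Going down above a prime with normal image. -/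
theorem exists_between (q Q' : Ideal A) [q.IsPrime] [Q'.IsPrime] (hqQ : q ≤ Q') (P : Ideal R) [P.IsPrime]
    [IsIntegrallyClosed (R ⧸ q.comap (algebraMap R A))] (hP : q.comap (algebraMap R A) ≤ P)
    (hPQ : P ≤ Q'.comap (algebraMap R A)) :
    ∃ Q : Ideal A, Q.IsPrime ∧ q ≤ Q ∧ Q ≤ Q' ∧ Q.comap (algebraMap R A) = P := by
  let P0 := q.comap (algebraMap R A)
  letI : Algebra (R ⧸ P0) (A ⧸ q) := Ideal.quotientAlgebra
  haveI hint : Algebra.IsIntegral (R ⧸ P0) (A ⧸ q) :=
    ⟨RingHom.IsIntegral.quotient (f := algebraMap R A) (Algebra.IsIntegral.isIntegral (R := R) (A := A))⟩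
  haveI : FaithfulSMul (R ⧸ P0) (A ⧸ q) :=
    (faithfulSMul_iff_algebraMap_injective _ _).2 Ideal.algebraMap_quotient_injective
  haveI : IsIntegrallyClosed (R ⧸ P0) := ‹_›
  haveI : (P.map (Ideal.Quotient.mk P0)).IsPrime :=
    Ideal.map_isPrime_of_surjective Ideal.Quotient.mk_surjective (by rwa [Ideal.mk_ker])
  haveI : (Q'.map (Ideal.Quotient.mk q)).IsPrime :=
    Ideal.map_isPrime_of_surjective Ideal.Quotient.mk_surjective (by rwa [Ideal.mk_ker])
  have hcomp : (algebraMap (R ⧸ P0) (A ⧸ q)).comp (Ideal.Quotient.mk P0) =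
      (Ideal.Quotient.mk q).comp (algebraMap R A) := RingHom.ext fun _ => rfl
  have hQ'c : (Q'.map (Ideal.Quotient.mk q)).comap (Ideal.Quotient.mk q) = Q' := by
    rw [Ideal.comap_map_of_surjective _ Ideal.Quotient.mk_surjective, ← RingHom.ker_eq_comap_bot, Ideal.mk_ker,
      sup_eq_left]
    exact hqQ
  have hPc : (P.map (Ideal.Quotient.mk P0)).comap (Ideal.Quotient.mk P0) = P := by
    rw [Ideal.comap_map_of_surjective _ Ideal.Quotient.mk_surjective, ← RingHom.ker_eq_comap_bot, Ideal.mk_ker,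
      sup_eq_left]
    exact hP
  have hle : P.map (Ideal.Quotient.mk P0) ≤ (Q'.map (Ideal.Quotient.mk q)).under (R ⧸ P0) := by
    rw [Ideal.map_le_iff_le_comap, Ideal.under_def, Ideal.comap_comap, hcomp, ← Ideal.comap_comap, hQ'c]
    exact hPQ
  haveI : ((Q'.map (Ideal.Quotient.mk q)).under (R ⧸ P0)).IsPrime := Ideal.IsPrime.comap _
  haveI : (Q'.map (Ideal.Quotient.mk q)).LiesOver ((Q'.map (Ideal.Quotient.mk q)).under (R ⧸ P0)) := ⟨rfl⟩
  obtain ⟨Qb, hQb, hQbp, hQbo⟩ := Ideal.exists_ideal_le_liesOver_of_le (p := P.map (Ideal.Quotient.mk P0))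
    (q := (Q'.map (Ideal.Quotient.mk q)).under (R ⧸ P0)) (Q'.map (Ideal.Quotient.mk q)) hle
  refine ⟨Qb.comap (Ideal.Quotient.mk q), Ideal.IsPrime.comap _, ?_, (Ideal.comap_mono hQb).trans hQ'c.le, ?_⟩
  · exact Ideal.mk_ker.symm.le.trans (Ideal.comap_mono bot_le)
  · rw [Ideal.comap_comap, ← hcomp, ← Ideal.comap_comap, show Qb.comap (algebraMap (R ⧸ P0) (A ⧸ q)) = _ from
      hQbo.over.symm, hPc]

end Between

variable (k : Type u) [Field k]

/-- The ideal of the first coordinates. -/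
def F (n h : ℕ) : Ideal (MvPolynomial (Fin n) k) := Ideal.span (X '' {l : Fin n | (l : ℕ) < h})

/-- Reversing the coordinates. -/
def flip (n : ℕ) : MvPolynomial (Fin n) k ≃ₐ[k] MvPolynomial (Fin n) k := renameEquiv k Fin.revPerm

variable {k}

theorem map_flip {n h : ℕ} (hh : h ≤ n) :
    (F k n h).map (flip k n).toRingEquiv.toRingHom = W k n (n - h) := by
  rw [F, W, Ideal.map_span, ← Set.image_comp]
  congr 1
  ext y
  simp only [Set.mem_image, Set.mem_setOf_eq, Function.comp_apply]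
  have hX : ∀ l : Fin n, (flip k n).toRingEquiv.toRingHom (X l) = X l.rev := fun l => by
    show rename _ (X l) = _
    simp
  constructor
  · rintro ⟨l, hl, rfl⟩
    exact ⟨l.rev, by rw [Fin.val_rev]; omega, (hX l).symm⟩
  · rintro ⟨l, hl, rfl⟩
    exact ⟨l.rev, by rw [Fin.val_rev]; omega, by rw [hX, Fin.rev_rev]⟩

theorem comap_flip {n h : ℕ} (hh : h ≤ n) :
    (W k n (n - h)).comap (flip k n).toRingEquiv.toRingHom = F k n h := by
  rw [← map_flip hh]
  exact Ideal.comap_map_of_bijective _ (flip k n).bijective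

theorem isPrime_F {n h : ℕ} (hh : h ≤ n) : (F k n h).IsPrime := by
  rw [← comap_flip hh]
  haveI := isPrime_W (k := k) (Nat.sub_le n h)
  infer_instance

theorem F_mono {n h h' : ℕ} (hle : h ≤ h') : F k n h ≤ F k n h' :=
  Ideal.span_mono (Set.image_mono fun _ hi => lt_of_lt_of_le hi hle)

theorem F_zero (n : ℕ) : F k n 0 = ⊥ := by
  rw [← comap_flip (Nat.zero_le n), Nat.sub_zero, W_self]
  exact Ideal.comap_bot_of_injective _ (flip k n).injective

theorem le_of_F_le {n h h' : ℕ} (hh : h ≤ n) (hh' : h' ≤ n) (hle : F k n h ≤ F k n h') : h ≤ h' := by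
  have h1 := Ideal.map_mono (f := (flip k n).toRingEquiv.toRingHom) hle
  rw [map_flip hh, map_flip hh'] at h1
  have := le_of_W_le (Nat.sub_le n h) (Nat.sub_le n h') h1
  omega

theorem isIntegrallyClosed_quot {n h : ℕ} (hh : h ≤ n) : IsIntegrallyClosed (MvPolynomial (Fin n) k ⧸ F k n h) :=
  IsIntegrallyClosed.of_equiv (((Ideal.quotientEquiv (F k n h) (W k n (n - h)) (flip k n).toRingEquiv
    (map_flip hh).symm)).trans (quotW (Nat.sub_le n h))).symm

theorem dim_quot_F {n h : ℕ} (hh : h ≤ n) :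
    ringKrullDim (MvPolynomial (Fin n) k ⧸ F k n h) = ((n - h : ℕ) : WithBot ℕ∞) := by
  rw [ringKrullDim_eq_of_ringEquiv (Ideal.quotientEquiv (F k n h) (W k n (n - h)) (flip k n).toRingEquiv
    (map_flip hh).symm), dim_quot_W (Nat.sub_le n h)]

variable {A : Type u} [CommRing A] [IsDomain A] [Algebra k A]

theorem exists_normalization [Algebra.FiniteType k A] (d : ℕ) (hd : ringKrullDim A = (d : WithBot ℕ∞))
    (r : ℕ) (q : Fin r → PrimeSpectrum A) (hq : Monotone q) (h : Fin r → ℕ) (hh : ∀ i, h i ≤ d)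
    (hdim : ∀ i, ringKrullDim (A ⧸ (q i).asIdeal) = ((d - h i : ℕ) : WithBot ℕ∞)) :
    ∃ φ : MvPolynomial (Fin d) k →ₐ[k] A, φ.toRingHom.Finite ∧ Function.Injective φ ∧
      ∀ i, (q i).asIdeal.comap φ = F k d (h i) := by
  obtain ⟨s, g, hg, hfin⟩ := exists_finite_inj_algHom_of_fg k A
  have hs : s = d := by
    have h1 := dim_eq_of_integral g.toRingHom hfin.to_isIntegral hg
    rw [hd, MvPolynomial.ringKrullDim_of_isNoetherianRing, ringKrullDim_eq_zero_of_field, zero_add,
      Nat.card_fin] at h1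
    exact_mod_cast h1.symm
  subst hs
  let g' : MvPolynomial (Fin s) k →ₐ[k] A := g
  obtain ⟨ψ, t, hψ, hψinj, ht, hψq⟩ := exists_endo_chain r s (fun i => (q i).asIdeal.comap g')
    (fun i => Ideal.IsPrime.comap _) (fun i j hij => Ideal.comap_mono (hq hij))
  have hint : (g'.comp ψ).toRingHom.IsIntegral :=
    RingHom.IsIntegral.trans ψ.toRingHom g'.toRingHom hψ hfin.to_isIntegral
  have hval : ∀ i, t i = s - h i := fun i => by
    have hc : (q i).asIdeal.comap (g'.comp ψ).toRingHom = W k s (t i) := hψq i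
    have h1 := dim_eq_of_integral _ (isIntegral_quotientMap (g'.comp ψ).toRingHom hint (q i).asIdeal)
      (injective_quotientMap _ _)
    rw [hdim i, ringKrullDim_eq_of_ringEquiv (Ideal.quotEquivOfEq hc), dim_quot_W (ht i)] at h1
    exact_mod_cast h1.symm
  let φ : MvPolynomial (Fin s) k →ₐ[k] A := (g'.comp ψ).comp (flip k s).toAlgHom
  have hφint : φ.toRingHom.IsIntegral :=
    RingHom.IsIntegral.trans (flip k s).toAlgHom.toRingHom _
      (RingHom.isIntegral_of_surjective _ (flip k s).surjective) hint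
  refine ⟨φ, ?_, (hg.comp hψinj).comp (flip k s).injective, fun i => ?_⟩
  · refine hφint.to_finite (RingHom.FiniteType.of_comp_finiteType (f := algebraMap k (MvPolynomial (Fin s) k)) ?_)
    rw [show φ.toRingHom.comp (algebraMap k (MvPolynomial (Fin s) k)) = algebraMap k A from φ.comp_algebraMap]
    exact RingHom.finiteType_algebraMap.mpr inferInstance
  · rw [← comap_flip (hh i), ← hval i, ← hψq i]
    rfl

theorem exists_chain (d : ℕ) (r : ℕ) (q : Fin r → PrimeSpectrum A) (hq : Monotone q) (h : Fin r → ℕ)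
    (hh : ∀ i, h i ≤ d) (φ : MvPolynomial (Fin d) k →ₐ[k] A) (hfin : φ.toRingHom.Finite)
    (hinj : Function.Injective φ) (hφ : ∀ i, (q i).asIdeal.comap φ = F k d (h i)) :
    ∃ Q : ℕ → PrimeSpectrum A, (∀ j, j ≤ d → (Q j).asIdeal.comap φ = F k d j) ∧
      (∀ j, j < d → Q j < Q (j + 1)) ∧ (∀ i, Q (h i) = q i) := by
  classical
  letI := φ.toRingHom.toAlgebra
  haveI : Algebra.IsIntegral (MvPolynomial (Fin d) k) A := ⟨hfin.to_isIntegral⟩
  let good : ℕ → PrimeSpectrum A → Prop := fun j Q =>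
    Q.asIdeal.comap φ = F k d j ∧ ∀ i, h i ≤ j → q i ≤ Q
  have hlow : ∀ j, j ≤ d → ∃ (a : ℕ) (L : PrimeSpectrum A), a ≤ j ∧ L.asIdeal.comap φ = F k d a ∧
      (∀ i, h i ≤ j → q i ≤ L) ∧ (∀ Q : PrimeSpectrum A, (∀ i, h i ≤ j → q i ≤ Q) → L ≤ Q) := by
    intro j _
    by_cases he : (Finset.univ.filter fun i => h i ≤ j).Nonempty
    · have him := Finset.max'_mem _ he
      refine ⟨h ((Finset.univ.filter fun i => h i ≤ j).max' he), q ((Finset.univ.filter fun i => h i ≤ j).max' he),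
        (Finset.mem_filter.1 him).2, hφ _, fun i hi => hq ?_, fun Q hQ => hQ _ (Finset.mem_filter.1 him).2⟩
      exact Finset.le_max' _ i (Finset.mem_filter.2 ⟨Finset.mem_univ _, hi⟩)
    · refine ⟨0, ⟨⊥, Ideal.isPrime_bot⟩, Nat.zero_le _, ?_, fun i hi => absurd ⟨i, Finset.mem_filter.2
        ⟨Finset.mem_univ _, hi⟩⟩ he, fun Q _ => bot_le (a := Q.asIdeal)⟩
      rw [F_zero]
      exact Ideal.comap_bot_of_injective φ.toRingHom hinj
  have htop : ∃ Q, good d Q := by
    obtain ⟨a, L, ha, hL, hLi, -⟩ := hlow d le_rfl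
    haveI := isPrime_F (k := k) (le_refl d)
    obtain ⟨Q, hQ, hQp, hQc⟩ := Ideal.exists_ideal_over_prime_of_isIntegral_of_isPrime (F k d d) L.asIdeal
      (hL.le.trans (F_mono ha))
    exact ⟨⟨Q, hQp⟩, hQc, fun i hi => (hLi i hi).trans hQ⟩
  have hstep : ∀ j, j < d → ∀ Q', good (j + 1) Q' → ∃ Q, good j Q ∧ Q < Q' := by
    intro j hj Q' hQ'
    obtain ⟨a, L, ha, hL, hLi, hLmin⟩ := hlow j hj.le
    haveI := isPrime_F (k := k) hj.le
    have hLQ : L ≤ Q' := hLmin Q' fun i hi => hQ'.2 i (hi.trans (Nat.le_succ j))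
    haveI : IsIntegrallyClosed (MvPolynomial (Fin d) k ⧸ L.asIdeal.comap (algebraMap (MvPolynomial (Fin d) k) A)) :=
      (isIntegrallyClosed_quot (k := k) (ha.trans hj.le)).of_equiv (Ideal.quotEquivOfEq hL).symm
    obtain ⟨Q, hQp, hLQ1, hQQ', hQc⟩ := exists_between L.asIdeal Q'.asIdeal hLQ (F k d j)
      (hL.le.trans (F_mono ha)) ((F_mono (Nat.le_succ j)).trans hQ'.1.ge)
    refine ⟨⟨Q, hQp⟩, ⟨hQc, fun i hi => (hLi i hi).trans hLQ1⟩, lt_of_le_of_ne hQQ' fun he => ?_⟩
    have h1 : Q'.asIdeal.comap φ = F k d j := by rw [← he]; exact hQc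
    rw [hQ'.1] at h1
    have := le_of_F_le (by omega) hj.le h1.le
    omega
  have hall : ∀ m, m ≤ d → ∃ Q : ℕ → PrimeSpectrum A, (∀ j, d - m ≤ j → j ≤ d → good j (Q j)) ∧
      ∀ j, d - m ≤ j → j < d → Q j < Q (j + 1) := by
    intro m
    induction m with
    | zero =>
      intro _
      obtain ⟨Q, hQ⟩ := htop
      exact ⟨fun _ => Q, fun j h1 h2 => (show j = d by omega) ▸ hQ, fun j h1 h2 => by omega⟩
    | succ m ih =>
      intro hm
      obtain ⟨Q, hQg, hQc⟩ := ih (by omega)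
      obtain ⟨Q0, hQ0g, hQ0⟩ := hstep (d - (m + 1)) (by omega) (Q (d - (m + 1) + 1)) (hQg _ (by omega) (by omega))
      refine ⟨Function.update Q (d - (m + 1)) Q0, fun j h1 h2 => ?_, fun j h1 h2 => ?_⟩
      · rcases eq_or_ne j (d - (m + 1)) with rfl | hne
        · rwa [Function.update_self]
        · rw [Function.update_of_ne hne]; exact hQg j (by omega) h2
      · rw [Function.update_of_ne (show j + 1 ≠ d - (m + 1) by omega)]
        rcases eq_or_ne j (d - (m + 1)) with rfl | hne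
        · rwa [Function.update_self]
        · rw [Function.update_of_ne hne]; exact hQc j (by omega) h2
  obtain ⟨Q, hQg, hQc⟩ := hall d le_rfl
  refine ⟨Q, fun j hj => (hQg j (by omega) hj).1, fun j hj => hQc j (by omega) hj, fun i => ?_⟩
  obtain ⟨h1, h2⟩ := hQg (h i) (by omega) (hh i)
  refine ((h2 i le_rfl).eq_or_lt.resolve_right fun hlt => ?_).symm
  have := Ideal.IsIntegral.comap_lt_comap (R := MvPolynomial (Fin d) k) hlt
  exact this.ne ((hφ i).trans h1.symm)

end Groth.Agent.H23NoetherChain
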